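import Groth.Agent.ProjFin.Main

/-!
# Linear projections remember `O(1)`
-/

set_option autoImplicit false
set_option linter.style.haveILetI false
set_option backward.isDefEq.respectTransparency false
set_option backward.isDefEq.respectTransparency.types false

universe u

open CategoryTheory Limits AlgebraicGeometry TopologicalSpace Opposite MvPolynomial

noncomputable section

namespace Groth.Agent.ProjFin

open Groth.Agent.QCoh Groth.Agent.Props.GenLocus Groth.Agent.AmpleLib Groth.Agent.ProjMorph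
open Groth.Agent.ProjTwist

variable {k : Type u} [Field k] {n : ℕ} {X : Scheme.{u}}

theorem exists_projection_iso (ι : X ⟶ CohB1.ProjSpace n k) [IsClosedImmersion ι] {d : ℕ}
    (a : Fin (d + 1) → Fin (n + 1) → k) (ha : ∀ x : X, ∃ i, a i ∉ vanish k n (ι x)) :
    ∃ π : X ⟶ CohB1.ProjSpace d k,
      π ≫ CohB1.ProjSpace.toSpec d k = ι ≫ CohB1.ProjSpace.toSpec n k ∧ IsFinite π ∧
        Nonempty ((Scheme.Modules.pullback π).obj (Twist.twistProjSpace d k 1) ≅
          (Scheme.Modules.pullback ι).obj (Twist.twistProjSpace n k 1)) := by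
  classical
  let t : Fin (n + 1) → MvPolynomial (Fin (n + 1)) k := fun i => MvPolynomial.X i
  have ht : ∀ i, t i ∈ CohB1.polyGrading n k 1 := fun i => isHomogeneous_X k i
  have hgen : Algebra.adjoin k (Set.range t) = ⊤ := adjoin_range_X
  have hM := isInvertible_twist_one (𝒜 := CohB1.polyGrading n k) t ht hgen
  let M := (Scheme.Modules.pullback ι).obj (Twist.twist (CohB1.polyGrading n k) 1)
  have hM' : PicF.IsInvertible M := PicCl.isInvertible_pullback ι hM
  let σ : Fin (d + 1) → ProjUP.Γm M := fun i => ProjUP.pullSec ι _ (gsec (lin_mem k n (a i)))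
  have hσ : ∀ i, locus (O := ⊤) (σ i) = ι ⁻¹ᵁ Proj.basicOpen _ (lin k n (a i)) := fun i => by
    rw [← locus_gsec t ht hgen (lin_mem k n (a i)), ← locus_pb ι hM]
    rfl
  have hcov : ∀ x : X, ∃ i, x ∈ locus (O := ⊤) (σ i) := fun x => by
    obtain ⟨i, hi⟩ := ha x
    exact ⟨i, (hσ i).ge hi⟩
  let f := ι ≫ CohB1.ProjSpace.toSpec n k
  let q₀ : k →+* Γ(X, ⊤) := ProjUP.toGlobal f
  let t' : Fin (d + 1) → MvPolynomial (Fin (d + 1)) k := fun i => MvPolynomial.X i
  have ht' : ∀ i, t' i ∈ CohB1.polyGrading d k 1 := fun i => isHomogeneous_X k i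
  obtain ⟨r, τ, hr, hpre, -, -⟩ := exists_to_proj (𝒜 := CohB1.polyGrading d k) t' ht'
    adjoin_range_X q₀ hM' σ (generatedBy_of_loci σ hcov) fun i cc _ =>
      ⟨MvPolynomial.eval₂Hom ((rres le_top).hom.comp q₀) cc,
        RingHom.ext fun a => MvPolynomial.eval₂Hom_C _ _ a, fun j => MvPolynomial.eval₂Hom_X' _ _ j⟩
  have hrf : r ≫ CohB1.ProjSpace.toSpec d k = f := hr.trans (toSpecΓ_toGlobal f)
  have hra : IsAffineHom r := by
    have htop : (⨆ i, Proj.basicOpen (CohB1.polyGrading d k) (t' i)) = ⊤ :=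
      iSup_basicOpen_gen t' ht' adjoin_range_X
    rw [HasAffineProperty.iff_of_iSup_eq_top (P := @IsAffineHom)
      (fun i => ⟨_, Proj.isAffineOpen_basicOpen _ _ (ht' i) one_pos⟩) htop]
    intro i
    change IsAffineOpen (r ⁻¹ᵁ Proj.basicOpen (CohB1.polyGrading d k) (t' i))
    rw [hpre, hσ]
    exact (Proj.isAffineOpen_basicOpen _ _ (lin_mem k n (a i)) one_pos).preimage ι
  have := ProjProper.Basic.isProper_toSpec n k
  have := ProjProper.Basic.isProper_toSpec d k
  have : IsProper (r ≫ CohB1.ProjSpace.toSpec d k) := by rw [hrf]; infer_instance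
  have : IsProper r := IsProper.of_comp r (CohB1.ProjSpace.toSpec d k)
  exact ⟨r, hrf, IsFinite.iff_isProper_and_isAffineHom.mpr ⟨‹_›, hra⟩, ⟨τ⟩⟩

end Groth.Agent.ProjFin
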