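import Groth.Agent.ProjMorph.Ample
import Groth.Agent.ProjMorph.Base
import Groth.Agent.ProjProper.Basic
import Groth.Agent.ProjTwist.Pn.Twist
import Groth.Agent.S10829
import Groth.Agent.S18573
import Mathlib.GroupTheory.CosetCover

/-!
# Finite surjective linear projections of closed subschemes of projective space
-/

set_option autoImplicit false
set_option linter.style.haveILetI false
set_option backward.isDefEq.respectTransparency false
set_option backward.isDefEq.respectTransparency.types false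

universe u

open CategoryTheory Limits AlgebraicGeometry TopologicalSpace Opposite MvPolynomial

noncomputable section

namespace Groth.Agent.ProjFin

open Groth.Agent.QCoh Groth.Agent.Props.GenLocus Groth.Agent.AmpleLib Groth.Agent.ProjMorph
open Groth.Agent.ProjTwist

variable (k : Type u) [Field k] (n : ℕ)

/-- The linear form with given coefficients. -/
def lin : (Fin (n + 1) → k) →ₗ[k] MvPolynomial (Fin (n + 1)) k :=
  Fintype.linearCombination k (fun i => (MvPolynomial.X i : MvPolynomial (Fin (n + 1)) k))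

theorem lin_mem (a : Fin (n + 1) → k) : lin k n a ∈ CohB1.polyGrading n k 1 := by
  rw [lin, Fintype.linearCombination_apply]
  exact Submodule.sum_mem _ fun i _ => Submodule.smul_mem _ _ (isHomogeneous_X k i)

/-- The linear forms vanishing at a point. -/
def vanish (x : ProjectiveSpectrum (CohB1.polyGrading n k)) : Submodule k (Fin (n + 1) → k) :=
  Submodule.comap (lin k n) (Submodule.restrictScalars k x.asHomogeneousIdeal.toIdeal)

theorem vanish_ne_top (x : ProjectiveSpectrum (CohB1.polyGrading n k)) : vanish k n x ≠ ⊤ := by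
  classical
  intro h
  refine x.not_irrelevant_le ((ProperFin.irrelevant_le_span n).trans ?_)
  rw [Ideal.span_le]
  rintro _ ⟨i, rfl⟩
  have hi : Pi.single i (1 : k) ∈ vanish k n x := h ▸ Submodule.mem_top
  have h1 : lin k n (Pi.single i 1) ∈ x.asHomogeneousIdeal.toIdeal := hi
  rwa [lin, Fintype.linearCombination_apply_single, one_smul] at h1

/-- The points where a linear form vanishes form a closed set. -/
theorem isClosed_setOf_vanish (a : Fin (n + 1) → k) :
    IsClosed {x : ↥(CohB1.ProjSpace n k) | a ∈ vanish k n x} := by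
  have h : {x : ↥(CohB1.ProjSpace n k) | a ∈ vanish k n x} =
      ((show (CohB1.ProjSpace n k).Opens from Proj.basicOpen (CohB1.polyGrading n k) (lin k n a)) : Set ↥(CohB1.ProjSpace n k))ᶜ := by
    ext x
    exact (not_not (a := lin k n a ∈ (show ProjectiveSpectrum (CohB1.polyGrading n k) from x).asHomogeneousIdeal.toIdeal)).symm
  rw [h]
  exact (Proj.basicOpen _ _).2.isClosed_compl

variable {k n} {X : Scheme.{u}}

theorem exists_forms [Infinite k] [NoetherianSpace X] (j : X ⟶ CohB1.ProjSpace n k) :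
    ∀ (m : ℕ) (Z : Closeds X), (∀ x ∈ Z, Order.height x < (m : ℕ∞)) →
      ∃ a : Fin m → Fin (n + 1) → k, ∀ x ∈ Z, ∃ i, a i ∉ vanish k n (j x)
  | 0, Z, hZ => ⟨fun i => i.elim0, fun x hx => absurd (hZ x hx) (by simp)⟩
  | m + 1, Z, hZ => by
    obtain ⟨S, hS2, hS1, hS⟩ := NoetherianSpace.exists_finite_set_closeds_irreducible Z
    let g : S → X := fun T => (hS1 T T.2 : IsIrreducible (T.1 : Set X)).genericPoint
    have : Finite S := hS2.to_subtype
    obtain ⟨a₀, ha₀⟩ : ∃ a₀, ∀ T : S, a₀ ∉ vanish k n (j (g T)) := by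
      by_contra h
      push Not at h
      obtain ⟨T, hT⟩ := Subspace.exists_eq_top_of_iUnion_eq_univ (p := fun T : S => vanish k n (j (g T)))
        (Set.eq_univ_of_forall fun a => Set.mem_iUnion.2 (h a))
      exact vanish_ne_top k n _ hT
    let Z' : Closeds X := ⟨(Z : Set X) ∩ j ⁻¹' {y | a₀ ∈ vanish k n y},
      Z.2.inter ((isClosed_setOf_vanish k n a₀).preimage j.continuous)⟩
    obtain ⟨a, ha⟩ := exists_forms j m Z' fun x hx => by
      obtain ⟨T, hT, hxT⟩ : ∃ T ∈ S, x ∈ (T : Closeds X) := by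
        have hxZ : x ∈ (Z : Set X) := hx.1
        have hcl : IsClosed (⋃₀ (SetLike.coe '' S) : Set X) := by
          rw [Set.sUnion_image]
          exact hS2.isClosed_biUnion fun T _ => T.2
        rw [hS, Closeds.coe_sSup, hcl.closure_eq] at hxZ
        obtain ⟨_, ⟨T, hT, rfl⟩, hxT⟩ := hxZ
        exact ⟨T, hT, hxT⟩
      have hgT := (hS1 T hT).isGenericPoint_genericPoint_closure
      rw [show closure (T : Set X) = (T : Set X) from T.2.closure_eq] at hgT
      have hle : x ≤ g ⟨T, hT⟩ := hgT.specializes hxT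
      have hne : x ≠ g ⟨T, hT⟩ := fun h => ha₀ ⟨T, hT⟩ (h ▸ hx.2)
      have hgZ : g ⟨T, hT⟩ ∈ Z := (le_sSup hT).trans hS.ge hgT.mem
      have h1 := (Order.height_add_one_le (lt_of_le_not_ge hle fun h => hne ((show g ⟨T, hT⟩ ⤳ x from hle).antisymm (show x ⤳ g ⟨T, hT⟩ from h)).eq.symm)).trans_lt (hZ _ hgZ)
      rw [Nat.cast_succ] at h1
      exact (ENat.add_lt_add_iff_right ENat.one_ne_top).1 h1
    refine ⟨Fin.cons a₀ a, fun x hx => ?_⟩
    by_cases hx' : a₀ ∈ vanish k n (j x)
    · obtain ⟨i, hi⟩ := ha x ⟨hx, hx'⟩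
      exact ⟨i.succ, by rwa [Fin.cons_succ]⟩
    · exact ⟨0, by rwa [Fin.cons_zero]⟩

theorem generatedBy_of_loci {L : X.Modules} {κ : Type*} [Fintype κ] (s : κ → ProjUP.Γm L)
    (h : ∀ x : X, ∃ i, x ∈ locus (O := ⊤) (s i)) : ProjUP.GeneratedBy L s := by
  intro x
  obtain ⟨i, hxi⟩ := h x
  have hg := isGen_locus (O := ⊤) (s i)
  have hbij := ((isGen_iff_isFrame _).mp hg).stalkComb_bijective x hxi
  refine top_le_iff.mp fun z _ => ?_
  obtain ⟨a, ha⟩ := hbij.2 z
  rw [← ha]
  simp only [LFFrame.stalkComb, Fintype.linearCombination_apply, Fin.sum_univ_one]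
  refine Submodule.smul_mem _ _ (Submodule.subset_span ⟨i, ?_⟩)
  exact (L.presheaf.germ_res_apply _ x hxi (s i)).symm

theorem exists_projection (ι : X ⟶ CohB1.ProjSpace n k) [IsClosedImmersion ι] {d : ℕ}
    (a : Fin (d + 1) → Fin (n + 1) → k) (ha : ∀ x : X, ∃ i, a i ∉ vanish k n (ι x)) :
    ∃ π : X ⟶ CohB1.ProjSpace d k,
      π ≫ CohB1.ProjSpace.toSpec d k = ι ≫ CohB1.ProjSpace.toSpec n k ∧ IsFinite π := by
  classical
  let t : Fin (n + 1) → MvPolynomial (Fin (n + 1)) k := fun i => MvPolynomial.X i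
  have ht : ∀ i, t i ∈ CohB1.polyGrading n k 1 := fun i => isHomogeneous_X k i
  have hgen : Algebra.adjoin k (Set.range t) = ⊤ := adjoin_range_X
  have hM := isInvertible_twist_one (𝒜 := CohB1.polyGrading n k) t ht hgen
  let M := (Scheme.Modules.pullback ι).obj (Twist.twist (CohB1.polyGrading n k) 1)
  have hM' : PicF.IsInvertible M := PicCl.isInvertible_pullback ι hM
  let σ : Fin (d + 1) → ProjUP.Γm M := fun i => ProjUP.pullSec ι _ (gsec (lin_mem k n (a i)))
  have hσ : ∀ i, locus (O := ⊤) (σ i) = ι ⁻¹ᵁ Proj.basicOpen _ (lin k n (a i)) := fun i => by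
    rw [← locus_gsec t ht hgen (lin_mem k n (a i)), ← locus_pb ι hM]
    rfl
  have hcov : ∀ x : X, ∃ i, x ∈ locus (O := ⊤) (σ i) := fun x => by
    obtain ⟨i, hi⟩ := ha x
    exact ⟨i, (hσ i).ge hi⟩
  let f := ι ≫ CohB1.ProjSpace.toSpec n k
  let q₀ : k →+* Γ(X, ⊤) := ProjUP.toGlobal f
  let t' : Fin (d + 1) → MvPolynomial (Fin (d + 1)) k := fun i => MvPolynomial.X i
  have ht' : ∀ i, t' i ∈ CohB1.polyGrading d k 1 := fun i => isHomogeneous_X k i
  obtain ⟨r, τ, hr, hpre, -, -⟩ := exists_to_proj (𝒜 := CohB1.polyGrading d k) t' ht'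
    adjoin_range_X q₀ hM' σ (generatedBy_of_loci σ hcov) fun i cc _ =>
      ⟨MvPolynomial.eval₂Hom ((rres le_top).hom.comp q₀) cc,
        RingHom.ext fun a => MvPolynomial.eval₂Hom_C _ _ a, fun j => MvPolynomial.eval₂Hom_X' _ _ j⟩
  have hrf : r ≫ CohB1.ProjSpace.toSpec d k = f := hr.trans (toSpecΓ_toGlobal f)
  have hra : IsAffineHom r := by
    have htop : (⨆ i, Proj.basicOpen (CohB1.polyGrading d k) (t' i)) = ⊤ :=
      iSup_basicOpen_gen t' ht' adjoin_range_X
    rw [HasAffineProperty.iff_of_iSup_eq_top (P := @IsAffineHom)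
      (fun i => ⟨_, Proj.isAffineOpen_basicOpen _ _ (ht' i) one_pos⟩) htop]
    intro i
    change IsAffineOpen (r ⁻¹ᵁ Proj.basicOpen (CohB1.polyGrading d k) (t' i))
    rw [hpre, hσ]
    exact (Proj.isAffineOpen_basicOpen _ _ (lin_mem k n (a i)) one_pos).preimage ι
  have := ProjProper.Basic.isProper_toSpec n k
  have := ProjProper.Basic.isProper_toSpec d k
  have : IsProper (r ≫ CohB1.ProjSpace.toSpec d k) := by rw [hrf]; infer_instance
  have : IsProper r := IsProper.of_comp r (CohB1.ProjSpace.toSpec d k)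
  exact ⟨r, hrf, IsFinite.iff_isProper_and_isAffineHom.mpr ⟨‹_›, hra⟩⟩

/-- A finite morphism to `P^d` from a scheme of dimension at least `d` is surjective. -/
theorem surjective_of_isFinite {d : ℕ} (π : X ⟶ CohB1.ProjSpace d k) [IsFinite π]
    (hd : (d : WithBot ℕ∞) ≤ topologicalKrullDim X) : Surjective π := by
  rw [show topologicalKrullDim X = Order.krullDim X from
    Order.krullDim_eq_of_orderIso irreducibleSetEquivPoints, Order.le_krullDim_iff] at hd
  obtain ⟨l, hl⟩ := hd
  have hinj : ∀ x y : X, y ⤳ x → π x = π y → x = y := fun x y hxy h => by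
    have hdisc := π.isDiscrete_preimage_singleton (π x)
    have := hdisc.to_subtype
    have hsp : (⟨y, h.symm⟩ : π ⁻¹' {π x}) ⤳ ⟨x, rfl⟩ := (subtype_specializes_iff _ _).2 hxy
    exact (congrArg Subtype.val (specializes_iff_eq.1 hsp)).symm
  have hmono : StrictMono π := fun x y hxy => lt_of_le_not_ge
    ((show y ⤳ x from hxy.le).map π.continuous)
    fun h => hxy.not_ge (show y ≤ x from specializes_of_eq (hinj x y hxy.le
      (((show y ⤳ x from hxy.le).map π.continuous).antisymm (show π x ⤳ π y from h)).eq.symm))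
  let l' := l.map π hmono
  haveI := Groth.Agent.S18573.irreducibleSpace_projSpace d k
  let η : ↥(CohB1.ProjSpace d k) := genericPoint ↥(CohB1.ProjSpace d k)
  have hη : l'.last = η := by
    by_contra hne
    have h1 : l'.last < η := lt_of_le_not_ge (show l'.last ≤ η from genericPoint_specializes _)
      fun h => hne ((show l'.last ⤳ η from h).antisymm (genericPoint_specializes _)).eq
    have h2 : ((Order.height l'.last + 1 : ℕ∞) : WithBot ℕ∞) ≤ (d : ℕ∞) := by
      refine le_trans ?_ (Groth.Agent.S10829.result k d).le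
      rw [show topologicalKrullDim ↥(CohB1.ProjSpace d k) = Order.krullDim ↥(CohB1.ProjSpace d k) from
        Order.krullDim_eq_of_orderIso irreducibleSetEquivPoints]
      exact (WithBot.coe_le_coe.2 (Order.height_add_one_le h1)).trans (Order.height_le_krullDim η)
    have h4 : ((d + 1 : ℕ) : ℕ∞) ≤ (d : ℕ∞) := by
      refine le_trans ?_ (WithBot.coe_le_coe.1 h2)
      rw [Nat.cast_succ]
      gcongr
      exact le_of_eq_of_le (by simp [l', hl]) (Order.length_le_height (p := l') le_rfl)
    exact absurd (Nat.cast_le.1 h4) (by omega)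
  refine ⟨Set.range_eq_univ.1 (Set.eq_univ_of_forall fun y => ?_)⟩
  have hmem : η ∈ Set.range π := hη ▸ ⟨l.last, (LTSeries.last_map l π hmono).symm⟩
  exact (genericPoint_specializes y).mem_closed π.isClosedMap.isClosed_range hmem

end Groth.Agent.ProjFin
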